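import Cfsg.Agent.CITPairFour.Basic
import Cfsg.Agent.CITPlane4.Main
import Cfsg.Agent.TwoTransfer.Basic

/-!
# A configuration with `q = 4` in a simple CIT group: `T` is a Sylow 2-subgroup, the group is `L3(4)`
-/

set_option autoImplicit false
set_option linter.unusedSectionVars false

open Subgroup

namespace Cfsg.Agent.CITPairFour

open Cfsg.Agent.CITPair

universe u

variable {G : Type u} [Group G] [Finite G] {T V V' : Subgroup G}

theorem cj_swap_pow (C : Config T V V' 4) {g : G} (hg : g ∈ normalizer (T : Set G))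
    (h : cj g V = V') {m : ℕ} (hm : Odd m) : cj (g ^ m) V = V' := by
  have h' : cj g V' = V := by
    rcases cj_cases C hg with ⟨h1, -⟩ | ⟨-, h2⟩
    · exact absurd (h1.symm.trans h) (ne C)
    · exact h2
  obtain ⟨j, rfl⟩ := hm
  have h2 : g ^ 2 ∈ normalizer (V : Set G) := cj_eq_self_iff.1 (by rw [pow_two, cj_mul, h, h'])
  rw [pow_succ', pow_mul, cj_mul, cj_eq_self_iff.2 (pow_mem h2 j), h]

/-- A 2-group properly containing `T` gives an involution exchanging `V` and `V'` and inverting an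
element of order 3. -/
theorem exists_swap (C : Config T V V' 4) (hC : CIT G) {P : Subgroup G} (hP : IsPGroup 2 P)
    (hTP : T < P) : ∃ s x : G, s * s = 1 ∧ s ∈ normalizer (T : Set G) ∧ cj s V = V' ∧
      orderOf x = 3 ∧ x ∈ normalizer (V : Set G) ∧ x ∈ normalizer (V' : Set G) ∧
      s * x * s⁻¹ = x⁻¹ := by
  haveI : Fact (Nat.Prime 2) := ⟨Nat.prime_two⟩
  haveI : Fact (Nat.Prime 3) := ⟨Nat.prime_three⟩
  obtain ⟨s₀, hs₀P, hs₀T, hs₀⟩ := exists_normalizing hP hTP
  obtain ⟨x, hxo, hxV, hxT⟩ := exists_borel C hC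
  have stab : ∀ {g : G}, g ∈ normalizer (T : Set G) → g ∈ normalizer (V : Set G) →
      g ∈ normalizer (V' : Set G) := fun {g} h1 h2 => by
    rcases cj_cases C h1 with ⟨-, h'⟩ | ⟨h', -⟩
    · exact cj_eq_self_iff.1 h'
    · exact absurd ((cj_eq_self_iff.2 h2).symm.trans h') (ne C)
  rcases cj_cases C hs₀ with ⟨h, -⟩ | ⟨hsV, hsV'⟩
  · exact absurd (mem_T_of C hP hs₀P (cj_eq_self_iff.1 h) hs₀) hs₀T
  set H0 := normalizer (T : Set G) ⊓ normalizer (V : Set G) with hH0
  have hxV' := stab hxT hxV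
  have hR : s₀ * x * s₀⁻¹ ∈ H0 := by
    refine ⟨mul_mem (mul_mem hs₀ hxT) (Subgroup.inv_mem _ hs₀), cj_eq_self_iff.1 ?_⟩
    have h1 : cj s₀⁻¹ V = V' := by
      conv_lhs => rw [← hsV']
      rw [← cj_mul, inv_mul_cancel, cj_one]
    rw [cj_mul, h1, cj_mul, cj_eq_self_iff.2 hxV', hsV']
  have hxH : x ∈ H0 := ⟨hxT, hxV⟩
  have h3g : ∀ {y : G}, orderOf y = 3 → IsPGroup 3 (zpowers y) := fun {y} hy =>
    IsPGroup.of_card (n := 1) (by rw [Nat.card_zpowers, hy, pow_one])
  have hidx : ¬ 3 ∣ (zpowers x).relIndex H0 := by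
    intro h3
    have h1 := ((zpowers x).subgroupOf H0).card_mul_index
    rw [Nat.card_congr (subgroupOfEquivOfLe (zpowers_le.2 hxH)).toEquiv, Nat.card_zpowers,
      hxo] at h1
    have h2 := card_dvd_of_le (inf_le_right : H0 ≤ normalizer (V : Set G))
    rw [card_N C hC, ← h1] at h2
    have h9 := (Nat.mul_dvd_mul_left 3 h3).trans h2
    omega
  obtain ⟨h, hh, hconj⟩ := CITPlane4.exists_conj_le (h3g hxo) (zpowers_le.2 hxH) hidx
    (h3g (y := s₀ * x * s₀⁻¹) (by
      rw [← MulAut.conj_apply, MulEquiv.orderOf_eq, hxo]))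
    (zpowers_le.2 hR)
  have hyx : h * s₀ * x * (h * s₀)⁻¹ ∈ zpowers x := by
    have := hconj _ (mem_zpowers (s₀ * x * s₀⁻¹))
    simpa [mul_assoc] using this
  have hn : h * s₀ ∈ normalizer (zpowers x : Set G) := mem_normalizer_of_le fun y hy => by
    obtain ⟨k, rfl⟩ := hy
    show h * s₀ * x ^ k * (h * s₀)⁻¹ ∈ zpowers x
    rw [← conj_zpow]
    exact zpow_mem hyx k
  have hsT : h * s₀ ∈ normalizer (T : Set G) := mul_mem hh.1 hs₀
  have hsw : cj (h * s₀) V = V' := by
    rw [cj_mul, hsV]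
    exact cj_eq_self_iff.2 (stab hh.1 hh.2)
  obtain ⟨k, m, hm, ho⟩ := Nat.exists_eq_pow_mul_and_not_dvd (orderOf_pos (h * s₀)).ne' 2 (by decide)
  have hsw' := cj_swap_pow C hsT hsw (Nat.odd_iff.2 (Nat.two_dvd_ne_zero.1 hm))
  set s := (h * s₀) ^ m with hs
  have hs2g : IsPGroup 2 (zpowers s) := by
    have hp : s ^ 2 ^ k = 1 := by
      rw [hs, ← pow_mul, mul_comm, ← ho, pow_orderOf_eq_one]
    intro a
    obtain ⟨i, hi⟩ := a.2
    refine ⟨k, Subtype.ext ?_⟩
    rw [SubmonoidClass.coe_pow, OneMemClass.coe_one, ← hi, ← zpow_natCast, ← zpow_mul,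
      mul_comm, zpow_mul, zpow_natCast, hp, one_zpow]
  have hs1 : s ≠ 1 := fun e => ne C (by rwa [e, cj_one] at hsw')
  have hodd : Odd (orderOf x) := by rw [hxo]; decide
  have hx1 : x ≠ 1 := fun e => by rw [e, orderOf_one] at hxo; omega
  have hinv : s * x * s⁻¹ = x⁻¹ := by
    obtain ⟨i, hi⟩ := mem_zpowers_iff.1
      ((mem_normalizer_iff.1 (pow_mem hn m) x).1 (mem_zpowers x))
    rw [← zpow_mod_orderOf, hxo] at hi
    have : i % 3 = 0 ∨ i % 3 = 1 ∨ i % 3 = 2 := by omega
    rcases this with e | e | e <;> simp only [Nat.cast_ofNat, e] at hi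
    · exact absurd (conj_eq_one_iff.1 ((zpow_zero x).symm.trans hi).symm) hx1
    · rw [zpow_one] at hi
      exact absurd (eq_one_of_odd_commute hC hs2g (mem_zpowers s) hs1
        (show Commute x s from (mul_inv_eq_iff_eq_mul.1 hi.symm).symm) hodd) hx1
    · rw [← hi]
      refine eq_inv_of_mul_eq_one_left ?_
      rw [← zpow_add_one]
      show x ^ ((3 : ℕ) : ℤ) = 1
      rw [zpow_natCast, ← hxo, pow_orderOf_eq_one]
  refine ⟨s, x, ?_, pow_mem hsT m, hsw', hxo, hxV, hxV', hinv⟩
  by_contra hne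
  refine hx1 (eq_one_of_odd_commute hC hs2g (pow_mem (mem_zpowers s) 2) ?_ ?_ hodd)
  · rwa [pow_two]
  · refine (mul_inv_eq_iff_eq_mul.1 ?_ : s ^ 2 * x = x * s ^ 2).symm
    calc s ^ 2 * x * (s ^ 2)⁻¹ = s * (s * x * s⁻¹) * s⁻¹ := by rw [pow_two]; group
      _ = s * x⁻¹ * s⁻¹ := by rw [hinv]
      _ = (s * x * s⁻¹)⁻¹ := by group
      _ = x := by rw [hinv, inv_inv]

/-- `T` is a Sylow 2-subgroup. -/
theorem not_lt_sylow [IsSimpleGroup G] (hC : CIT G) (C : Config T V V' 4) :
    ∀ P : Subgroup G, IsPGroup 2 P → T ≤ P → P = T := by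
  haveI : Fact (Nat.Prime 2) := ⟨Nat.prime_two⟩
  intro P hP hTP
  by_contra hne
  obtain ⟨s, x, hs, hsT, hsV, hxo, hxV, hxV', hinv⟩ :=
    exists_swap C hC hP (lt_of_le_of_ne hTP (Ne.symm hne))
  have hsi : s⁻¹ = s := inv_eq_self hs
  have hsV' : cj s V' = V := by
    rw [← hsV, ← cj_mul, hs, cj_one]
  have hsnot : s ∉ T := fun e =>
    ne C ((cj_eq_self_iff.2 (C.par.le e)).symm.trans hsV)
  have hVs : ∀ {v : G}, v ∈ V → s * v * s ∈ V' := fun {v} hv => by
    have := conj_mem_cj (g := s) hv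
    rwa [hsV, hsi] at this
  have hVs' : ∀ {v : G}, v ∈ V' → s * v * s ∈ V := fun {v} hv => by
    have := conj_mem_cj (g := s) hv
    rwa [hsV', hsi] at this
  have hWs : ∀ {v : G}, v ∈ V ⊓ V' → s * v * s ∈ V ⊓ V' := fun h => ⟨hVs' h.2, hVs h.1⟩
  have hWsq : ∀ {v : G}, v ∈ V ⊓ V' → v * v = 1 := fun h => sqV C _ h.1
  -- the fixed involution of `W`
  obtain ⟨w, hw, hwne⟩ : ∃ w ∈ V ⊓ V', w * (s * w * s) ≠ 1 := by
    by_contra! hall
    have hfix : ∀ u ∈ V ⊓ V', s * u * s = u := fun u hu => by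
      rw [← inv_eq_of_mul_eq_one_right (hall u hu), inv_eq_self (hWsq hu)]
    obtain ⟨u, hu, hu1⟩ := (V ⊓ V').bot_or_exists_ne_one.resolve_left (fun e => by
      have := cardW C
      rw [e, card_bot] at this
      omega)
    have hu' : x * u * x⁻¹ ∈ V ⊓ V' :=
      ⟨(mem_normalizer_iff.1 hxV u).1 hu.1, (mem_normalizer_iff.1 hxV' u).1 hu.2⟩
    have h1 := hfix _ hu'
    have hinv' : s⁻¹ * x⁻¹ * s = x := by
      calc s⁻¹ * x⁻¹ * s = (s⁻¹ * x * (s⁻¹)⁻¹)⁻¹ := by group
        _ = x := by rw [hsi, hinv, inv_inv]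
    have h2 : s * (x * u * x⁻¹) * s = x⁻¹ * u * x := by
      calc s * (x * u * x⁻¹) * s = (s * x * s⁻¹) * (s * u * s) * (s⁻¹ * x⁻¹ * s) := by group
        _ = x⁻¹ * u * x := by rw [hfix u hu, hinv, hinv']
    rw [h2] at h1
    refine hu1 ?_
    have hc : Commute (x * x) u := by
      show x * x * u = u * (x * x)
      calc x * x * u = x * (x * u * x⁻¹) * x := by group
        _ = x * (x⁻¹ * u * x) * x := by rw [h1]
        _ = u * (x * x) := by group
    by_contra hu1'
    have := eq_one_of_odd_commute hC (C.par.two.to_le (inf_le_left.trans (leV C))) hu hu1' hc (by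
      rw [← pow_two, orderOf_pow' x two_ne_zero, hxo]
      decide)
    have h3 : x ^ 3 = 1 := by rw [← hxo, pow_orderOf_eq_one]
    rw [pow_succ, pow_two, this, one_mul] at h3
    rw [h3, orderOf_one] at hxo
    omega
  set z := w * (s * w * s) with hzdef
  have hz : z ∈ V ⊓ V' := mul_mem hw (hWs hw)
  have hzs : Commute s z := by
    have h1 : s * z * s = z := by
      calc s * z * s = (s * w * s) * (s * s)⁻¹ * ((s * s) * w * (s * s)) := by rw [hzdef]; group
        _ = s * w * s * w := by rw [hs]; group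
        _ = z := (commV C (hWs hw).1 hw.1).eq
    calc s * z = s * z * (s * s) := by rw [hs, mul_one]
      _ = s * z * s * s := (mul_assoc _ _ _).symm
      _ = z * s := by rw [h1]
  have honly : ∀ {u : G}, u ∈ V ⊓ V' → Commute s u → u ≠ 1 → u = z := by
    intro u hu hcu hu1
    by_contra huz
    have hF : V ⊓ V' ≤ centralizer ({s} : Set G) := by
      refine inf_eq_left.1 (eq_of_le_of_card_ge inf_le_left ?_)
      rw [cardW C]
      set F := (V ⊓ V') ⊓ centralizer ({s} : Set G) with hF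
      have hmem : ∀ {y : G}, y ∈ V ⊓ V' → Commute s y → y ∈ F := fun hy hc =>
        ⟨hy, mem_centralizer_singleton_iff.2 hc.eq.symm⟩
      have hsub : ({1, u, z} : Set G) ⊆ (F : Set G) := by
        rintro y (rfl | rfl | rfl)
        · exact one_mem F
        · exact hmem hu hcu
        · exact hmem hz hzs
      have h3 := Set.ncard_le_ncard hsub (Set.toFinite _)
      rw [Set.ncard_insert_of_notMem (by simp [Ne.symm hu1, Ne.symm hwne]) (Set.toFinite _),
        Set.ncard_pair huz, ← Nat.card_coe_set_eq] at h3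
      have h4 := card_dvd_of_le (inf_le_left : F ≤ V ⊓ V')
      rw [cardW C] at h4
      have h5 := Nat.le_of_dvd (by norm_num) h4
      have h6 : 2 + 1 ≤ Nat.card F := h3
      rcases Nat.lt_or_ge (Nat.card F) 4 with h7 | h7
      · exfalso
        have : Nat.card F = 3 := by omega
        rw [this] at h4
        norm_num at h4
      · exact h7
    refine hwne ?_
    rw [hzdef, show s * w * s = w by
      rw [← mem_centralizer_singleton_iff.1 (hF hw), mul_assoc, hs, mul_one]]
    exact hWsq hw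
  -- the elementary abelian subgroups of order 16 of `S₁ = T⟨s⟩`
  set S₁ := zpowers s ⊔ T with hS₁
  have hsle : zpowers s ≤ normalizer (T : Set G) := zpowers_le.2 hsT
  have hsS : s ∈ S₁ := mem_sup_left (mem_zpowers s)
  have hso : orderOf s = 2 := orderOf_eq_prime (by rw [pow_two, hs]) fun e => hsnot (e ▸ one_mem T)
  have hS₁N : S₁ ≤ normalizer (T : Set G) := sup_le hsle le_normalizer
  have hdec : ∀ {y : G}, y ∈ S₁ → y ∈ T ∨ s * y ∈ T := fun {y} hy => by
    rw [hS₁, ← SetLike.mem_coe, coe_mul_of_left_le_normalizer_right _ _ hsle] at hy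
    obtain ⟨a, ha, t, ht, rfl⟩ := hy
    obtain ⟨k, rfl⟩ := ha
    show s ^ k * t ∈ T ∨ s * (s ^ k * t) ∈ T
    rw [← zpow_mod_orderOf, hso]
    rcases Int.emod_two_eq_zero_or_one k with e | e <;> simp only [Nat.cast_ofNat, e]
    · exact Or.inl (by rw [zpow_zero, one_mul]; exact ht)
    · exact Or.inr (by rw [zpow_one, ← mul_assoc, hs, one_mul]; exact ht)
  have hcardS : Nat.card S₁ = 128 := by
    have h := S0606.card_sup_mul_card_inf_of_le_normalizer hsle
    have hdisj : zpowers s ⊓ T = ⊥ := by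
      refine eq_bot_iff.2 fun y hy => mem_bot.2 ?_
      obtain ⟨k, rfl⟩ := hy.1
      have h2 : s ^ k ∈ T := hy.2
      show s ^ k = 1
      rw [← zpow_mod_orderOf, hso] at h2 ⊢
      rcases Int.emod_two_eq_zero_or_one k with e | e <;> simp only [Nat.cast_ofNat, e] at h2 ⊢
      · exact zpow_zero s
      · rw [zpow_one] at h2
        exact absurd h2 hsnot
    rw [hdisj, card_bot, mul_one, Nat.card_zpowers, hso, cardT C] at h
    rw [hS₁, h]
  have hS₁2 : IsPGroup 2 S₁ := IsPGroup.of_card (n := 7) (by rw [hcardS]; norm_num)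
  have helem : ∀ A : Subgroup G, A ≤ S₁ → (∀ a ∈ A, a * a = 1) → Nat.card A = 16 →
      A = V ∨ A = V' := by
    intro A hA h2 hc
    by_cases hAT : A ≤ T
    · exact eq_or_eq C hAT h2 hc
    exfalso
    obtain ⟨a, ha, haT⟩ := SetLike.not_le_iff_exists.1 hAT
    have hsa := (hdec (hA ha)).resolve_left haT
    have ha' : a = s * (s * a) := by rw [← mul_assoc, hs, one_mul]
    have haV : cj a V = V' := by
      rw [ha', cj_mul, cj_eq_self_iff.2 (C.par.le hsa), hsV]
    have haV' : cj a V' = V := by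
      rw [ha', cj_mul, cj_eq_self_iff.2 (C.par'.le hsa), hsV']
    have hfix : ∀ b ∈ A, a * b * a⁻¹ = b := fun b hb => by
      rw [CITPlane4.comm_of_sq h2 ha hb, mul_inv_cancel_right]
    have h0 : A ⊓ T ≤ V ⊓ V' := by
      rcases le_or_le C inf_le_right (fun b hb => h2 b hb.1) with h | h
      · exact fun b hb => ⟨h hb, by
          have := conj_mem_cj (g := a) (h hb)
          rwa [haV, hfix b hb.1] at this⟩
      · exact fun b hb => ⟨by
          have := conj_mem_cj (g := a) (h hb)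
          rwa [haV', hfix b hb.1] at this, h hb⟩
    have h4 := card_le_of_le h0
    rw [cardW C] at h4
    have h5 := S0606.card_sup_mul_card_inf_of_le_normalizer (hA.trans hS₁N)
    have h6 := card_le_of_le (sup_le hA le_sup_right : A ⊔ T ≤ S₁)
    rw [hcardS] at h6
    rw [hc, cardT C] at h5
    have := Nat.mul_le_mul h6 h4
    omega
  -- `S₁` is a Sylow subgroup
  have hmax : ∀ R : Subgroup G, IsPGroup 2 R → S₁ ≤ R → R = S₁ := by
    intro R hR hle
    by_contra hne'
    obtain ⟨g, hgR, hgS, hg⟩ := exists_normalizing hR (lt_of_le_of_ne hle (Ne.symm hne'))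
    have hVS : ∀ A : Subgroup G, A ≤ T → Nat.card A = 16 → (∀ a ∈ A, a * a = 1) →
        cj g A ≤ T := fun A hA hc h2 => by
      rcases helem (cj g A) ((cj_le_cj (hA.trans le_sup_right)).trans (cj_eq_self_iff.2 hg).le)
        (ea_cj h2 g) (by rw [card_cj, hc]) with e | e <;> rw [e]
      exacts [leV C, leV' C]
    have hgT : g ∈ normalizer (T : Set G) := cj_eq_self_iff.1 (eq_of_le_of_card_ge
      (by
        rw [C.sup, cj, Subgroup.map_sup]
        exact C.sup ▸ sup_le (hVS V (leV C) (cardV C) (sqV C))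
          (hVS V' (leV' C) (cardV (symm C)) (sqV (symm C))))
      (card_cj g T).ge)
    rcases cj_cases C hgT with ⟨h1, -⟩ | ⟨h1, -⟩
    · exact hgS (mem_sup_right (mem_T_of C hR hgR (cj_eq_self_iff.1 h1) hgT))
    · have h2 : s * g ∈ T := mem_T_of C hR (mul_mem (hle hsS) hgR)
        (cj_eq_self_iff.1 (by rw [cj_mul, h1, hsV'])) (mul_mem hsT hgT)
      refine hgS ?_
      have := mul_mem hsS (mem_sup_right h2 : s * g ∈ S₁)
      rwa [← mul_assoc, hs, one_mul] at this
  have hzo : orderOf z = 2 := orderOf_eq_prime (by rw [pow_two, hWsq hz]) hwne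
  have hCz : centralizer ({z} : Set G) = S₁ := hmax _ (hC z hzo) (sup_le
    (zpowers_le.2 (mem_centralizer_singleton_iff.2 hzs.eq))
    fun t ht => mem_centralizer_singleton_iff.2 (W_central C hz ht).eq)
  -- an element of `C_T(s)` squaring to `z`
  obtain ⟨v, hv, hvW⟩ := SetLike.exists_of_lt (lt_of_le_of_ne (inf_le_left : V ⊓ V' ≤ V) (fun e => by
    have := cardW C
    rw [e, cardV C] at this
    omega))
  set r := v * (s * v * s) with hr
  have hv' : s * v * s ∈ V' := hVs hv
  have hrT : r ∈ T := mul_mem (leV C hv) (leV' C hv')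
  have hrr : r * r ∈ V ⊓ V' := by
    refine ⟨C.par.sq_mem r hrT, C.par'.sq_mem r hrT⟩
  have hsr : s * r * s = r⁻¹ := by
    have hvi : v⁻¹ = v := inv_eq_self (sqV C v hv)
    rw [hr, mul_inv_rev, hvi, inv_eq_self (sqV (symm C) _ hv')]
    calc s * (v * (s * v * s)) * s = s * v * s * v * (s * s) := by group
      _ = s * v * s * v := by rw [hs, mul_one]
  have hrrs : Commute s (r * r) := by
    have h1 : s * (r * r) * s = r * r := by
      calc s * (r * r) * s = (s * r * s) * (s * s)⁻¹ * (s * r * s) := by group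
        _ = (r * r)⁻¹ := by rw [hs, hsr]; group
        _ = r * r := inv_eq_self (hWsq hrr)
    calc s * (r * r) = s * (r * r) * (s * s) := by rw [hs, mul_one]
      _ = s * (r * r) * s * s := (mul_assoc _ _ _).symm
      _ = r * r * s := by rw [h1]
  have hrne : r * r ≠ 1 := fun e => by
    have hvT : s * v * s ∉ V := fun h => hvW ⟨hv, by
      have := hVs h
      rwa [show s * (s * v * s) * s = (s * s) * v * (s * s) by group, hs, one_mul, mul_one] at this⟩
    refine hvW (mem_of_commute C (leV' C hv') hvT hv ?_)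
    show s * v * s * v = v * (s * v * s)
    rw [← hr, ← inv_eq_self e, hr, mul_inv_rev, inv_eq_self (sqV C v hv),
      inv_eq_self (sqV (symm C) _ hv')]
  have hrz : r * r = z := honly hrr hrrs hrne
  have hwc : ∀ {y : G}, y ∈ T → Commute y w := fun hy => W_central C hw hy
  have ht2 : r * w * (r * w) = z := by
    calc r * w * (r * w) = r * (w * r) * w := by group
      _ = r * r * (w * w) := by rw [← (hwc hrT).eq]; group
      _ = z := by rw [hWsq hw, mul_one, hrz]
  have hts : Commute s (r * w) := by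
    have h1 : s * (r * w) * s = r * w := by
      have hswz : s * w * s = w * z := by
        rw [hzdef, ← mul_assoc w w, hWsq hw, one_mul]
      calc s * (r * w) * s = (s * r * s) * (s * s)⁻¹ * (s * w * s) := by group
        _ = r⁻¹ * (w * z) := by rw [hs, inv_one, mul_one, hsr, hswz]
        _ = r⁻¹ * (z * w) := by rw [(commV C hw.1 hz.1).eq]
        _ = r * w := by rw [← hrz]; group
    calc s * (r * w) = s * (r * w) * (s * s) := by rw [hs, mul_one]
      _ = s * (r * w) * s * s := (mul_assoc _ _ _).symm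
      _ = r * w * s := by rw [h1]
  -- transfer
  obtain ⟨Sy, hSy⟩ := hS₁2.exists_le_sylow
  have hSy' : (Sy : Subgroup G) = S₁ := hmax _ Sy.2 hSy
  obtain ⟨g, hg⟩ : ∃ g : G, g⁻¹ * s * g ∈ T := by
    by_contra! hall
    have hrel : T.relIndex (Sy : Subgroup G) = 2 := by
      rw [hSy', Subgroup.relIndex]
      have h := (T.subgroupOf S₁).card_mul_index
      rw [Nat.card_congr (subgroupOfEquivOfLe (le_sup_right : T ≤ S₁)).toEquiv, cardT C, hcardS] at h
      omega
    obtain ⟨N, hN, hidx, -⟩ := TwoTransfer.exists_index_two Sy T hrel s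
      (show s ∈ (Sy : Subgroup G) by rw [hSy']; exact hsS)
      (fun k g hk _ => by
        have : s ^ (2 ^ k) = 1 := by
          obtain ⟨j, rfl⟩ := Nat.exists_eq_add_of_le' hk
          rw [pow_succ', pow_mul, pow_two, hs, one_pow]
        rw [this, mul_one, inv_mul_cancel]
        exact one_mem T)
      (fun g _ => hall g)
    rcases hN.eq_bot_or_eq_top with e | e
    · rw [e, index_bot] at hidx
      have := card_subgroup_dvd_card S₁
      rw [hcardS, hidx] at this
      norm_num at this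
    · rw [e, index_top] at hidx
      omega
  have hu1 : g⁻¹ * s * g ≠ 1 := fun e => hsnot (by
    rw [show s = g * (g⁻¹ * s * g) * g⁻¹ by group, e]; simp)
  have hu2 : g⁻¹ * s * g * (g⁻¹ * s * g) = 1 := by
    calc g⁻¹ * s * g * (g⁻¹ * s * g) = g⁻¹ * (s * s) * g := by group
      _ = 1 := by rw [hs]; group
  obtain ⟨k, hk⟩ : ∃ k : G, k * z * k⁻¹ = g⁻¹ * s * g := by
    rcases invol_mem C hg hu2 with h | h
    · exact exists_conj_V C hC hz hwne h hu1
    · exact exists_conj_V (symm C) hC ⟨hz.2, hz.1⟩ hwne h hu1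
  obtain ⟨c, hc⟩ : ∃ c : G, c * z * c⁻¹ = s := ⟨g * k, by
    calc g * k * z * (g * k)⁻¹ = g * (k * z * k⁻¹) * g⁻¹ := by group
      _ = s := by rw [hk]; group⟩
  have hmemC : ∀ {y : G}, Commute y s → c⁻¹ * y * c ∈ S₁ := fun {y} hy => by
    rw [← hCz, mem_centralizer_singleton_iff]
    calc c⁻¹ * y * c * z = c⁻¹ * (y * (c * z * c⁻¹)) * c := by group
      _ = c⁻¹ * ((c * z * c⁻¹) * y) * c := by rw [hc, hy.eq]
      _ = z * (c⁻¹ * y * c) := by group
  have hy' := hmemC hts.symm
  have hz' : c⁻¹ * z * c ∈ T := by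
    have e : c⁻¹ * z * c = c⁻¹ * (r * w) * c * (c⁻¹ * (r * w) * c) := by
      rw [← ht2]; group
    rw [e]
    rcases hdec hy' with h | h
    · exact mul_mem h h
    · set y := c⁻¹ * (r * w) * c
      have hcs := (mem_normalizer_iff.1 hsT (s * y)).1 h
      rw [hsi] at hcs
      have e2 : y * y = (s * (s * y) * s) * (s * y) := by
        calc y * y = (s * s) * y * (s * s) * y := by rw [hs, one_mul, mul_one]
          _ = (s * (s * y) * s) * (s * y) := by group
      rw [e2]
      exact mul_mem hcs h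
  have hz'2 : c⁻¹ * z * c * (c⁻¹ * z * c) = 1 := by
    calc c⁻¹ * z * c * (c⁻¹ * z * c) = c⁻¹ * (z * z) * c := by group
      _ = 1 := by rw [hWsq hz]; group
  have final : ∀ A : Subgroup G, A ≤ T → Nat.card A = 16 → (∀ a ∈ A, a * a = 1) → z ∈ A →
      c⁻¹ * z * c ∈ A → False := by
    intro A hAT hA16 hA2 hzA hz'A
    have hle : cj c A ≤ S₁ := fun y hy => by
      rw [← hCz, mem_centralizer_singleton_iff]
      have h := CITPlane4.comm_of_sq hA2 (mem_cj.1 hy) hz'A
      calc y * z = c * ((c⁻¹ * y * c) * (c⁻¹ * z * c)) * c⁻¹ := by group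
        _ = c * ((c⁻¹ * z * c) * (c⁻¹ * y * c)) * c⁻¹ := by rw [h]
        _ = z * y := by group
    have hs' : s ∈ cj c A := hc ▸ conj_mem_cj hzA
    rcases helem _ hle (ea_cj hA2 c) (by rw [card_cj, hA16]) with e | e
    · exact hsnot (leV C (e ▸ hs'))
    · exact hsnot (leV' C (e ▸ hs'))
  rcases invol_mem C hz' hz'2 with h | h
  · exact final V (leV C) (cardV C) (sqV C) hz.1 h
  · exact final V' (leV' C) (cardV (symm C)) (sqV (symm C)) hz.2 h

/-- The group is `PSL(3, 4)`. -/
theorem psl34 [IsSimpleGroup G] (hC : CIT G) (C : Config T V V' 4) :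
    ∃ (F : Type) (_ : Field F) (_ : Fintype F), Fintype.card F = 4 ∧
      Nonempty (G ≃* Matrix.ProjectiveSpecialLinearGroup (Fin 3) F) := by
  obtain ⟨S, hS⟩ := C.par.two.exists_le_sylow
  have hST : (S : Subgroup G) = T := not_lt_sylow hC C _ S.2 hS
  have key : ∀ {V V' : Subgroup G} (_ : Config T V V' 4) (x : G), x ∈ (S : Subgroup G) →
      (∀ y ∈ (S : Subgroup G), x * y = y * x) → x ∈ V := fun {V V'} C x hx h => by
    rw [hST] at hx h
    exact C.par.loc.mem_of_centralizes hC (C.par.le hx) fun v hv => h v (C.par.Qle (VV_le V hv))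
  refine CITPlane4.exists_iso_psl34 hC S V V' ?_ (cardV C) (cardV (symm C)) (sqV C)
    (sqV (symm C)) (by rw [hST, C.sup]) (hST ▸ C.par.le) (hST ▸ C.par'.le) (card_N C hC)
    (card_N (symm C) hC) (key C) (key (symm C))
  rw [hST, cardT C]

end Cfsg.Agent.CITPairFour
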