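import Cfsg.Agent.CITPair.Exists
import Cfsg.Agent.CITPair.OffenderSylow
import Cfsg.Agent.Classical.Linear2

/-!
# A configuration with `q = 4`: the local structure
-/

set_option autoImplicit false
set_option linter.unusedSectionVars false

open Subgroup

namespace Cfsg.Agent.CITPairFour

open Cfsg.Agent.CITPair

universe u

variable {G : Type u} [Group G] [Finite G]

theorem mem_normalizer_of_le {B : Subgroup G} {g : G} (h : ∀ x ∈ B, g * x * g⁻¹ ∈ B) :
    g ∈ normalizer (B : Set G) := by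
  refine cj_eq_self_iff.1 (eq_of_le_of_card_ge (fun y hy => ?_) (card_cj g B).ge)
  simpa [mul_assoc] using h _ (mem_cj.1 hy)

variable {T V V' : Subgroup G}

theorem cardV (C : Config T V V' 4) : Nat.card V = 16 := by
  have h := C.par.cardV
  rwa [← C.eqV] at h

theorem cardW (C : Config T V V' 4) : Nat.card (V ⊓ V' : Subgroup G) = 4 := by
  have h := C.par.cardW
  rwa [← C.eqV, ← C.inf] at h

theorem cardT (C : Config T V V' 4) : Nat.card T = 64 := by
  rw [C.par.cardT, cardV C]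

theorem mem_VV' {x : G} (C : Config T V V' 4) (hx : x ∈ V) : x ∈ VV V := C.eqV ▸ hx

theorem sqV (C : Config T V V' 4) : ∀ x ∈ V, x * x = 1 := fun _ hx => (mem_VV' C hx).2.1

theorem commV (C : Config T V V' 4) {x y : G} (hx : x ∈ V) (hy : y ∈ V) : Commute x y :=
  (mem_VV' C hy).2.2 x hx

theorem symm (C : Config T V V' 4) : Config T V' V 4 := by
  refine ⟨C.par', C.par, C.eqV', C.eqV, by rw [C.sup, sup_comm], ?_⟩
  have hW := cardW C
  have h4 := C.par'.cardW
  rw [← C.eqV'] at h4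
  refine eq_of_le_of_card_ge (le_inf inf_le_left ?_) ?_
  · rw [inf_comm, C.inf]
    exact inf_le_right
  · rw [inf_comm V' V, hW, h4]

theorem leV (C : Config T V V' 4) : V ≤ T := C.par.Qle

theorem leV' (C : Config T V V' 4) : V' ≤ T := C.par'.Qle

theorem ne (C : Config T V V' 4) : V ≠ V' := fun e => by
  have := cardW C
  rw [← e, inf_idem, cardV C] at this
  omega

theorem W_central (C : Config T V V' 4) {w : G} (hw : w ∈ V ⊓ V') {t : G} (ht : t ∈ T) :
    Commute t w := mem_centralizer_iff.1 (C.inf ▸ hw : w ∈ V ⊓ centralizer (T : Set G)).2 t ht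

theorem mem_of_commute (C : Config T V V' 4) {a v : G} (ha : a ∈ T) (haV : a ∉ V) (hv : v ∈ V)
    (h : Commute a v) : v ∈ V ⊓ V' := by
  rw [C.inf]
  exact ⟨hv, C.par.cent a ha haV v (mem_VV' C hv) h⟩

theorem eq_mul (C : Config T V V' 4) {x : G} (hx : x ∈ T) :
    ∃ v ∈ V, ∃ w ∈ V', x = v * w := by
  rw [C.sup, ← SetLike.mem_coe, coe_mul_of_left_le_normalizer_right V V'
    ((leV C).trans C.par'.le)] at hx
  obtain ⟨v, hv, w, hw, rfl⟩ := hx
  exact ⟨v, hv, w, hw, rfl⟩

/-- The involutions of `T` lie in `V ∪ V'`. -/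
theorem invol_mem (C : Config T V V' 4) {x : G} (hx : x ∈ T) (h : x * x = 1) :
    x ∈ V ∨ x ∈ V' := by
  obtain ⟨v, hv, w, hw, rfl⟩ := eq_mul C hx
  rcases Classical.em (w ∈ V) with hwV | hwV
  · exact Or.inl (mul_mem hv hwV)
  refine Or.inr (mul_mem (mem_of_commute C (leV' C hw) hwV hv ?_).2 hw)
  show w * v = v * w
  calc w * v = w⁻¹ * v⁻¹ := by rw [inv_eq_self (sqV (symm C) w hw), inv_eq_self (sqV C v hv)]
    _ = (v * w)⁻¹ := (mul_inv_rev v w).symm
    _ = v * w := inv_eq_self h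

/-- The only elementary abelian subgroups of order 16 of `T` are `V` and `V'`. -/
theorem le_or_le (C : Config T V V' 4) {A : Subgroup G} (hA : A ≤ T)
    (h2 : ∀ a ∈ A, a * a = 1) : A ≤ V ∨ A ≤ V' := by
  by_contra! h
  obtain ⟨a, ha, haV⟩ := SetLike.not_le_iff_exists.1 h.1
  obtain ⟨b, hb, hbV⟩ := SetLike.not_le_iff_exists.1 h.2
  have ha' := (invol_mem C (hA ha) (h2 a ha)).resolve_left haV
  have hb' := (invol_mem C (hA hb) (h2 b hb)).resolve_right hbV
  rcases invol_mem C (hA (mul_mem ha hb)) (h2 _ (mul_mem ha hb)) with e | e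
  · exact haV (by simpa using mul_mem e (inv_mem hb'))
  · exact hbV (by simpa using mul_mem (inv_mem ha') e)

theorem eq_or_eq (C : Config T V V' 4) {A : Subgroup G} (hA : A ≤ T)
    (h2 : ∀ a ∈ A, a * a = 1) (hc : Nat.card A = 16) : A = V ∨ A = V' := by
  rcases le_or_le C hA h2 with h | h
  · exact Or.inl (eq_of_le_of_card_ge h (by rw [hc, cardV C]))
  · exact Or.inr (eq_of_le_of_card_ge h (by rw [hc, cardV (symm C)]))

theorem ea_cj {A : Subgroup G} (h : ∀ a ∈ A, a * a = 1) (g : G) :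
    ∀ a ∈ cj g A, a * a = 1 := fun a ha => by
  have e : g⁻¹ * (a * a) * g = 1 := by
    simpa [mul_assoc] using h _ (mem_cj.1 ha)
  calc a * a = g * (g⁻¹ * (a * a) * g) * g⁻¹ := by group
    _ = 1 := by rw [e]; group

/-- An element normalising `T` permutes `V` and `V'`. -/
theorem cj_cases (C : Config T V V' 4) {g : G} (hg : g ∈ normalizer (T : Set G)) :
    (cj g V = V ∧ cj g V' = V') ∨ (cj g V = V' ∧ cj g V' = V) := by
  have key : ∀ A : Subgroup G, A ≤ T → Nat.card A = 16 → (∀ a ∈ A, a * a = 1) →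
      cj g A = V ∨ cj g A = V' := fun A hA hc h2 =>
    eq_or_eq C ((cj_le_cj hA).trans (cj_eq_self_iff.2 hg).le) (ea_cj h2 g)
      (by rw [card_cj, hc])
  have hinj : cj g V ≠ cj g V' := fun e =>
    ne C (map_injective (MulAut.conj g).injective e)
  rcases key V (leV C) (cardV C) (sqV C) with h1 | h1 <;>
    rcases key V' (leV' C) (cardV (symm C)) (sqV (symm C)) with h2 | h2
  · exact absurd (h1.trans h2.symm) hinj
  · exact Or.inl ⟨h1, h2⟩
  · exact Or.inr ⟨h1, h2⟩
  · exact absurd (h1.trans h2.symm) hinj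

theorem mem_T_of (C : Config T V V' 4) {P : Subgroup G} (hP : IsPGroup 2 P) {g : G} (hgP : g ∈ P)
    (hgV : g ∈ normalizer (V : Set G)) (hgT : g ∈ normalizer (T : Set G)) : g ∈ T := by
  haveI : Fact (Nat.Prime 2) := ⟨Nat.prime_two⟩
  have h := C.par.syl (T ⊔ zpowers g) (sup_le C.par.le (zpowers_le.2 hgV))
    (C.par.two.to_sup_of_normal_left' (hP.to_le (zpowers_le.2 hgP)) (zpowers_le.2 hgT)) le_sup_left
  exact h ▸ mem_sup_right (mem_zpowers g)

section Image

variable (C : Config T V V' 4) (hC : CIT G)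
include C hC

/-- The image of `T` in the automorphism group of `V`. -/
theorem offT : Offender (VV V)
    ((T.subgroupOf (normalizer (V : Set G))).map (img C.par.loc)) := by
  have hle : V' ≤ normalizer (V : Set G) := (leV' C).trans C.par.le
  have hB : OffIn (normalizer (V : Set G)) V V' := by
    refine ⟨hle, sqV (symm C), fun h => ne C (eq_of_le_of_card_ge h
      (by rw [cardV C, cardV (symm C)])).symm, fun b hb c hc v hv => ?_, ?_⟩
    · exact mem_centralizer_iff.1 (C.par.comm_mem b (leV' C hb) v hv) c (leV' C hc)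
    · rw [C.par.cardV, cardV (symm C), show Nat.card (V' ⊓ V : Subgroup G) = 4 by
        rw [inf_comm, cardW C]]
      refine Nat.mul_le_mul_left 16 ?_
      rw [← C.par.cardW]
      exact card_le_of_le (inf_le_inf_left _ (centralizer_le (leV' C)))
  have O := C.par.loc.offender hC hB
  rwa [O.eq_of_isPGroup (C.par.loc.fpfAct hC)
    (P := (T.subgroupOf (normalizer (V : Set G))).map (img C.par.loc))
    ((C.par.two.comap_subtype).map _) (map_mono (comap_mono (leV' C)))]

theorem card_imgT :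
    Nat.card ((T.subgroupOf (normalizer (V : Set G))).map (img C.par.loc)) = 4 := by
  have := card_inf_mul_card_map (img C.par.loc) (T.subgroupOf (normalizer (V : Set G)))
  rw [C.par.loc.card_ker_inf hC, subgroupOf_map_subtype, inf_of_le_left C.par.le,
    inf_of_le_right (leV C), Nat.card_congr (subgroupOfEquivOfLe C.par.le).toEquiv, cardT C,
    cardV C] at this
  omega

theorem mem_imgT_iff (n : normalizer (V : Set G)) :
    img C.par.loc n ∈ (T.subgroupOf (normalizer (V : Set G))).map (img C.par.loc) ↔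
      (n : G) ∈ T := by
  refine ⟨fun h => ?_, fun h => C.par.loc.mem_map_img.2 ⟨n, h, rfl⟩⟩
  obtain ⟨b, hb, e⟩ := C.par.loc.mem_map_img.1 h
  have h1 : ((b⁻¹ * n : normalizer (V : Set G)) : G) ∈ V :=
    (C.par.loc.ker_img hC _).1 (by rw [map_mul, map_inv, e, inv_mul_cancel])
  simpa using mul_mem hb (leV C h1)

theorem card_Img : Nat.card (Img C.par.loc) = 60 := by
  haveI : Fact (Nat.Prime 2) := ⟨Nat.prime_two⟩
  have H := C.par.loc.fpfAct hC
  have O := offT C hC
  have h4 := card_imgT C hC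
  obtain ⟨F, _, _, hch, hF4, ⟨e⟩, -⟩ := O.psl H (by omega)
  have hX := (Nat.card_congr e.toEquiv).trans Classical.card_sl2
  obtain ⟨P, hP⟩ := O.isPGroup.exists_le_sylow
  have hPB := O.eq_of_isPGroup H P.2 hP
  have hodd : ¬ 2 ∣ (P : Subgroup (Img C.par.loc)).index := P.not_dvd_index
  have hmul := (P : Subgroup (Img C.par.loc)).card_mul_index
  rw [hPB] at hmul hodd
  rw [h4, hX] at hmul
  obtain ⟨n, -, hn⟩ := FiniteField.card F 2
  set q := Fintype.card F with hq
  set i := Subgroup.index ((T.subgroupOf (normalizer (V : Set G))).map (img C.par.loc)) with hi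
  have h2q : 2 ∣ q := hn ▸ dvd_pow_self 2 n.ne_zero
  have hq2 : ¬ 2 ∣ q ^ 2 - 1 := by
    have h2 : 2 ∣ q ^ 2 := h2q.trans (dvd_pow_self q two_ne_zero)
    have h1 : 1 ≤ q ^ 2 := Nat.one_le_pow _ _ (by omega)
    omega
  have d1 : 4 ∣ q := by
    refine (Nat.Coprime.pow_left 2 (Nat.prime_two.coprime_iff_not_dvd.2 hq2)).dvd_of_dvd_mul_right ?_
    exact ⟨i, hmul.symm⟩
  have d2 : q ∣ 4 := by
    refine (Nat.Coprime.dvd_of_dvd_mul_right (k := q) (n := i) ?_ ⟨q ^ 2 - 1, hmul⟩)
    rw [hn]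
    exact Nat.Coprime.pow_left _ (Nat.prime_two.coprime_iff_not_dvd.2 hodd)
  rw [hX, Nat.dvd_antisymm d2 d1]
  norm_num

theorem card_N : Nat.card (normalizer (V : Set G)) = 960 := by
  have := card_inf_mul_card_map (img C.par.loc) (⊤ : Subgroup (normalizer (V : Set G)))
  rw [C.par.loc.card_ker_inf hC, ← MonoidHom.range_eq_map, range_subtype,
    inf_of_le_right (le_normalizer (H := V)), cardV C, card_top,
    ← MonoidHom.range_eq_map (img C.par.loc), MonoidHom.range_eq_top.2 (img_surjective _), card_top,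
    card_Img C hC] at this
  omega

/-- The involutions of `V` are conjugate. -/
theorem exists_conj_V {z v : G} (hz : z ∈ V ⊓ V') (hz1 : z ≠ 1) (hv : v ∈ V) (hv1 : v ≠ 1) :
    ∃ g : G, g * z * g⁻¹ = v := by
  classical
  have H := C.par.loc.fpfAct hC
  let z' : VV V := ⟨z, mem_VV' C hz.1⟩
  have hz' : z' ≠ 1 := fun e => hz1 (congrArg Subtype.val e)
  have hst : MulAction.stabilizer (Img C.par.loc) z' =
      (T.subgroupOf (normalizer (V : Set G))).map (img C.par.loc) := by
    refine (offT C hC).eq_of_isPGroup H (H.isPGroup_stabilizer hz') fun y hy => ?_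
    obtain ⟨n, hn, rfl⟩ := C.par.loc.mem_map_img.1 hy
    refine Subtype.ext ?_
    rw [img_smul]
    exact mul_inv_eq_iff_eq_mul.2 (W_central C hz hn).eq
  have h15 : (MulAction.orbit (Img C.par.loc) z').ncard = 15 := by
    rw [← MulAction.index_stabilizer, hst]
    have := Subgroup.card_mul_index ((T.subgroupOf (normalizer (V : Set G))).map (img C.par.loc))
    rw [card_imgT C hC, card_Img C hC] at this
    omega
  have hsub : MulAction.orbit (Img C.par.loc) z' ⊆ ({1} : Set (VV V))ᶜ := by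
    rintro _ ⟨y, rfl⟩
    exact fun e => hz' (by
      rw [← inv_smul_smul y z', show y • z' = 1 from e, smul_one])
  have heq := Set.eq_of_subset_of_ncard_le hsub (by
    rw [h15, Set.ncard_compl _, Set.ncard_singleton, C.par.cardV])
  have hm : (⟨v, mem_VV' C hv⟩ : VV V) ∈ MulAction.orbit (Img C.par.loc) z' :=
    heq ▸ fun e => hv1 (congrArg Subtype.val e)
  obtain ⟨y, hy⟩ := hm
  obtain ⟨n, rfl⟩ := img_surjective C.par.loc y
  exact ⟨n, congrArg Subtype.val hy⟩

/-- An element of order 3 normalising `T` and `V`. -/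
theorem exists_borel :
    ∃ x : G, orderOf x = 3 ∧ x ∈ normalizer (V : Set G) ∧ x ∈ normalizer (T : Set G) := by
  haveI : Fact (Nat.Prime 3) := ⟨Nat.prime_three⟩
  obtain ⟨x, hx, ho, -⟩ := C.par.three
  set N := normalizer (V : Set G)
  set Tb := (T.subgroupOf N).map (img C.par.loc) with hTb
  set y := img C.par.loc ⟨x, hx⟩ with hy
  have hy3 : y ^ 3 = 1 := by
    rw [hy, ← map_pow, show (⟨x, hx⟩ : N) ^ 3 = 1 from Subtype.ext (by
      show x ^ 3 = 1
      rw [← ho, pow_orderOf_eq_one]), map_one]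
  have hp : IsPGroup 3 (zpowers y) := fun a => by
    obtain ⟨k, hk⟩ := a.2
    refine ⟨1, Subtype.ext ?_⟩
    rw [pow_one, SubmonoidClass.coe_pow, OneMemClass.coe_one, ← hk, ← zpow_natCast, ← zpow_mul,
      mul_comm, zpow_mul, zpow_natCast, hy3, one_zpow]
  obtain ⟨D, hD⟩ := hp.nonempty_fixed_point_of_prime_not_dvd_card (Conjs Tb) (by
    rw [((offT C hC).card_conjs (C.par.loc.fpfAct hC)).1, card_imgT C hC]
    decide)
  have hfix : cj y (D : Subgroup (Img C.par.loc)) = D :=
    congrArg Subtype.val (hD ⟨y, mem_zpowers y⟩)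
  obtain ⟨h, hh⟩ := D.2
  obtain ⟨k, rfl⟩ := img_surjective C.par.loc h
  rw [← hh] at hfix
  have hn : img C.par.loc (k⁻¹ * ⟨x, hx⟩ * k) ∈ normalizer (Tb : Set (Img C.par.loc)) :=
    cj_eq_self_iff.1 (by
      rw [map_mul, map_mul, map_inv, ← hy, cj_mul, cj_mul, hfix, ← cj_mul, inv_mul_cancel, cj_one])
  refine ⟨((k⁻¹ * ⟨x, hx⟩ * k : N) : G), ?_, (k⁻¹ * ⟨x, hx⟩ * k : N).2, ?_⟩
  · rw [Subgroup.orderOf_coe, ← ho, ← Subgroup.orderOf_mk x hx]
    simpa [MulAut.conj_apply] using
      (MulEquiv.orderOf_eq (MulAut.conj k⁻¹) (⟨x, hx⟩ : N))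
  · refine mem_normalizer_of_le fun t ht => ?_
    refine (mem_imgT_iff C hC ((k⁻¹ * ⟨x, hx⟩ * k) * ⟨t, C.par.le ht⟩ * (k⁻¹ * ⟨x, hx⟩ * k)⁻¹)).1 ?_
    rw [map_mul, map_mul _ (k⁻¹ * ⟨x, hx⟩ * k), map_inv]
    exact (mem_normalizer_iff.1 hn _).1 ((mem_imgT_iff C hC _).2 ht)

end Image

end Cfsg.Agent.CITPairFour
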